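import Groth.Agent.L23.LocP
import Groth.Agent.L24.Boot.SpaceCofan
import Groth.Agent.L24.St.LocPFppf
import Groth.Agent.L24.Alg.SourceFppf

/-!
# Gluing algebraic spaces over open covers of a scheme, descent of finite presentation
-/

set_option autoImplicit false
set_option backward.isDefEq.respectTransparency.types false

universe u

open CategoryTheory CategoryTheory.Limits AlgebraicGeometry Opposite AlgSp

noncomputable section

namespace Groth.L09.Artin.Res

variable {S : Scheme.{u}}

/-- Flat and locally of finite presentation, for maps of spaces. -/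
abbrev FLP : MorphismProperty (Sp S) := LocP @Flat ⊓ LocP @LocallyOfFinitePresentation

theorem flp_of_smooth {F G : Sp S} {f : F ⟶ G} (h : LocP @Smooth f) : FLP f :=
  ⟨Groth.L23.locP_mono (fun _ hφ => by have := hφ; infer_instance) h,
    Groth.L23.locP_mono (fun _ hφ => by have := hφ; infer_instance) h⟩

theorem repBySpWith_flp_of_repWith {F G : Sp S} {f : F ⟶ G} (hf : RepWith @Smooth f) :
    RepBySpWith FLP f.hom := by
  refine (repBySpWith_hom_iff _ f).2 fun U ξ F' fst snd sq => ⟨?_, flp_of_smooth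
    (Groth.L23.locP_of_repWith Groth.L23.etLocal_smooth (Groth.L23.repWith_of_isPullback sq hf))⟩
  obtain ⟨V, fst', snd', sq'⟩ : ∃ (V : Over S) (fst' : (yon S).obj V ⟶ F) (snd' : V ⟶ U),
      IsPullback fst' ((yon S).map snd') f ξ := ⟨_, _, _, hf.1.isPullback ξ⟩
  exact (IsAlgSpace.yon_obj V).of_iso (sq'.isoIsPullback _ _ sq)

/-- A sheaf over a scheme is an algebraic space if it is one over each affine open. -/
theorem isAlgSpace_of_affineOpens {F : Sp S} {V : Over S} (p : F ⟶ (yon S).obj V)
    (H : ∀ {U : Over S} (u : U ⟶ V), IsOpenImmersion u.left → IsAffine U.left →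
      IsAlgSpace (pullback p ((yon S).map u))) : IsAlgSpace F := by
  let U : V.left.affineOpens → Over S := fun a => Over.mk (a.1.ι ≫ V.hom)
  let u : ∀ a, U a ⟶ V := fun a => Over.homMk a.1.ι rfl
  refine Groth.L24.Boot.isAlgSpace_of_flat_cover (fun a => H (u a) (inferInstanceAs (IsOpenImmersion a.1.ι))
    a.2) (fun a => pullback.fst p ((yon S).map (u a))) (fun a => ?_) fun y => ?_
  · refine repBySpWith_flp_of_repWith
      (Groth.L23.repWith_of_isPullback (IsPullback.of_hasPullback p ((yon S).map (u a))).flip ?_)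
    exact Groth.L23.repWith_map (inferInstanceAs (Smooth a.1.ι))
  · obtain ⟨v, hv⟩ := (Points.schemeEquiv V).surjective (Points.map p y)
    obtain ⟨_, ⟨W, hW, rfl⟩, hvW, -⟩ :=
      V.left.isBasis_affineOpens.exists_subset_of_mem_open (Set.mem_univ v) isOpen_univ
    let a : V.left.affineOpens := ⟨W, hW⟩
    obtain ⟨x, hx, -⟩ := Groth.L23.exists_of_isPullback (IsPullback.of_hasPullback p ((yon S).map (u a))) y
      (Points.ofScheme (U a) (⟨v, hvW⟩ : W)) (by
        rw [← Points.ofPt_eq_map_ofScheme, Groth.L23.ofPt_map]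
        exact hv.symm)
    exact ⟨a, x, hx⟩

/-- Properties which are local for the etale topology can be tested on an affine open cover of the target. -/
theorem locP_of_affineOpens {P : MorphismProperty Scheme.{u}} (hP : Groth.L23.EtLocal P) {F : Sp S} {V : Over S}
    (p : F ⟶ (yon S).obj V) (hF : IsAlgSpace F)
    (H : ∀ {U : Over S} (u : U ⟶ V), IsOpenImmersion u.left → IsAffine U.left →
      LocP P (pullback.snd p ((yon S).map u))) : LocP P p := by
  let U : V.left.affineOpens → Over S := fun a => Over.mk (a.1.ι ≫ V.hom)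
  let u : ∀ a, U a ⟶ V := fun a => Over.homMk a.1.ι rfl
  have hcov : IsFppfCover (fun a => (yon S).obj (U a)) (fun a => (yon S).map (u a)) := by
    refine ⟨fun a => ⟨?_, ?_⟩, fun y => ?_⟩
    · exact Groth.L23.locP_of_repWith Groth.L23.etLocal_flat (Groth.L23.repWith_map (inferInstanceAs (Flat a.1.ι)))
    · exact Groth.L23.locP_of_repWith Groth.L23.etLocal_lfp
        (Groth.L23.repWith_map (inferInstanceAs (LocallyOfFinitePresentation a.1.ι)))
    · obtain ⟨v, rfl⟩ := (Points.schemeEquiv V).surjective y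
      obtain ⟨_, ⟨W, hW, rfl⟩, hvW, -⟩ :=
        V.left.isBasis_affineOpens.exists_subset_of_mem_open (Set.mem_univ v) isOpen_univ
      refine ⟨⟨W, hW⟩, Points.ofScheme (U ⟨W, hW⟩) (⟨v, hvW⟩ : W), ?_⟩
      rw [← Points.ofPt_eq_map_ofScheme, Groth.L23.ofPt_map]
      rfl
  exact (Groth.L24.St.isLocalOnBase_locP_fppf hP (fun a => (yon S).obj (U a)) (fun a => (yon S).map (u a))
    (IsAlgSpace.yon_obj V) (fun a => IsAlgSpace.yon_obj _) hcov p hF (fun a => pullback p ((yon S).map (u a)))
    (fun a => pullback.snd _ _) (fun a => pullback.fst _ _)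
    (fun a => Groth.L24.St.isAlgSpace_pullback hF (IsAlgSpace.yon_obj _) (IsAlgSpace.yon_obj V) _ _)
    (fun a => IsPullback.of_hasPullback _ _)).2
    fun a => H (u a) (inferInstanceAs (IsOpenImmersion a.1.ι)) a.2

/-- Properties local on the source for the fppf topology descend along fppf covers of the source. -/
theorem locP_of_flat_cover {P : MorphismProperty Scheme.{u}} (hP : Groth.L23.EtLocal P)
    [IsZariskiLocalAtSource P]
    (hdesc : ∀ {A B C : Scheme.{u}} (χ : A ⟶ B) (g : B ⟶ C), Flat χ → LocallyOfFinitePresentation χ →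
      Surjective χ → P (χ ≫ g) → P g) {X : Sp S} {V : Over S} (hX : IsAlgSpace X) {I : Type u} {G : I → Sp S}
    (χ : ∀ i, G i ⟶ X) (hrep : ∀ i, RepBySpWith FLP (χ i).hom)
    (hsurj : ∀ y : Points X, ∃ i x, Points.map (χ i) x = y) (f : X ⟶ (yon S).obj V)
    (h : ∀ i, LocP P (χ i ≫ f)) : LocP P f := by
  have hid : RepWith @Etale (𝟙 ((yon S).obj V)) := Groth.L23.repWith_of_isIso _
  obtain ⟨U, a, k, ha, w, has'⟩ := Groth.L23.exists_chart_over hX (IsAlgSpace.yon_obj V) f hid
  have has : RepWith @Surjective a := has' (Groth.L23.repWith_of_isIso _)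
  refine Groth.L23.locP_of_chart hP ha has hid w ?_
  have hQ := fun i => (repBySpWith_hom_iff _ _).1 (hrep i) a (pullback.fst (χ i) a) (pullback.snd (χ i) a)
    (IsPullback.of_hasPullback _ _)
  choose R r hr hrs using fun i => (hQ i).1.atlas
  choose ρ hρ using fun i => (yon S).map_surjective (r i ≫ pullback.snd (χ i) a)
  have hρf : ∀ i, Flat (ρ i).left := fun i =>
    (hQ i).2.1 (r i) (𝟙 _) (ρ i) (hr i) (Groth.L23.repWith_of_isIso _) (by simp [hρ i])
  have hρp : ∀ i, LocallyOfFinitePresentation (ρ i).left := fun i =>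
    (hQ i).2.2 (r i) (𝟙 _) (ρ i) (hr i) (Groth.L23.repWith_of_isIso _) (by simp [hρ i])
  let π : ∐ (fun i => (R i).left) ⟶ U.left := Sigma.desc fun i => (ρ i).left
  have h1 : Flat π := IsZariskiLocalAtSource.sigmaDesc hρf
  have h2 : LocallyOfFinitePresentation π := IsZariskiLocalAtSource.sigmaDesc hρp
  have h3 : Surjective π := ⟨fun t => by
    obtain ⟨i, x, hx⟩ := hsurj (Points.ofPt a t)
    obtain ⟨q, -, hq⟩ := Groth.L23.exists_of_isPullback (IsPullback.of_hasPullback (χ i) a) x
      (Points.ofScheme U t) (hx.trans (Points.ofPt_eq_map_ofScheme a t))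
    obtain ⟨z, rfl⟩ := Groth.L23.surjective_ofPt (hrs i) q
    refine ⟨Sigma.ι (fun i => (R i).left) i z, ?_⟩
    rw [← Scheme.Hom.comp_apply, Sigma.ι_desc]
    apply (Points.schemeEquiv U).injective
    change Points.ofScheme U ((ρ i).left z) = Points.ofScheme U t
    rw [← Groth.L23.ofPt_map, hρ, ← Points.map_ofPt]
    exact hq⟩
  refine hdesc π k.left h1 h2 h3 ?_
  rw [show π ≫ k.left = Sigma.desc fun i => (ρ i).left ≫ k.left from by ext i; simp [π]]
  refine IsZariskiLocalAtSource.sigmaDesc fun i => ?_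
  have he : RepWith @Etale (r i ≫ pullback.fst (χ i) a) :=
    Groth.L23.repWith_comp (hr i) (Groth.L23.repWith_of_isPullback (IsPullback.of_hasPullback (χ i) a).flip ha)
  refine h i (r i ≫ pullback.fst (χ i) a) (𝟙 _) (ρ i ≫ k) he hid ?_
  rw [Category.assoc, pullback.condition_assoc, w, Functor.map_comp, hρ i]
  simp only [Category.assoc]

end Groth.L09.Artin.Res
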