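import Groth.Agent.L09.Artin.Res.Affine
import Groth.Agent.L13.WeilRes.Counit
import Groth.Agent.L24.Boot.LqfPoint
import Mathlib.AlgebraicGeometry.Morphisms.Etale
import Mathlib.AlgebraicGeometry.Morphisms.Finite

/-!
# Points of pushforwards along finite maps lift to finite families of affine pieces
-/

set_option autoImplicit false
set_option backward.isDefEq.respectTransparency.types false

universe u

open CategoryTheory CategoryTheory.Limits AlgebraicGeometry Opposite AlgSp
open scoped TensorProduct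

noncomputable section

namespace Groth.L09.Artin.Res

open Groth.L23.UHPush

/-- An etale surjection onto a finite scheme over an algebraically closed field has a section. -/
theorem exists_section_etale {K : Type u} [Field K] [IsAlgClosed K] {Z P : Scheme.{u}}
    (f : Z ⟶ Spec (CommRingCat.of K)) [IsFinite f] (e : P ⟶ Z) [Etale e] [Surjective e] :
    ∃ s : Z ⟶ P, s ≫ e = 𝟙 Z := by
  have : Finite ↥Z := Groth.L24.Boot.finite_of_isFinite_field f
  have : IsAffine Z := isAffine_of_isAffineHom f
  have key : ∀ z : ↥Z, ∃ U : P.Opens, IsAffineOpen U ∧ ∃ p ∈ U, e p = z := fun z => by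
    obtain ⟨p, rfl⟩ := e.surjective z
    obtain ⟨_, ⟨U, hU, rfl⟩, hp, -⟩ := P.isBasis_affineOpens.exists_subset_of_mem_open (Set.mem_univ p) isOpen_univ
    exact ⟨U, hU, p, hp, rfl⟩
  choose U hU p hp hep using key
  have : ∀ z, IsAffine (U z : Scheme.{u}) := hU
  let π : ∐ (fun z => (U z : Scheme.{u})) ⟶ Z := Sigma.desc fun z => (U z).ι ≫ e
  have hπe : Etale π := IsZariskiLocalAtSource.sigmaDesc fun z => inferInstance
  have hπs : Surjective π := ⟨fun z => ⟨Sigma.ι (fun z => (U z : Scheme.{u})) z ⟨p z, hp z⟩, by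
    rw [← Scheme.Hom.comp_apply, Sigma.ι_desc]
    exact hep z⟩⟩
  let D : Type u := Γ(Z, ⊤)
  let C : Type u := Γ(∐ (fun z => (U z : Scheme.{u})), ⊤)
  obtain ⟨α, hα⟩ := Spec.map_surjective (Z.isoSpec.inv ≫ f)
  letI : Algebra K D := α.hom.toAlgebra
  have : IsFinite (Spec.map α) := by rw [hα]; infer_instance
  have : Module.Finite K D := RingHom.finite_algebraMap.1 ((IsFinite.SpecMap_iff α).1 this)
  have : IsArtinianRing D := IsArtinianRing.of_finite K _
  letI : Algebra D C := π.appTop.hom.toAlgebra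
  have : Algebra.Smooth D C :=
    RingHom.smooth_algebraMap.1 ((HasRingHomProperty.iff_of_isAffine (P := @Smooth)).1 (inferInstance : Smooth π))
  have hsurj : Function.Surjective (PrimeSpectrum.comap (algebraMap D C)) := by
    have h : Surjective (Spec.map π.appTop) :=
      ((MorphismProperty.arrow_mk_iso_iff @Surjective (arrowIsoSpecΓOfIsAffine π).symm).2 hπs :)
    exact h.surj
  have hχ : ∀ M : MaximalSpectrum D, Nonempty (C →ₐ[D] D ⧸ M.asIdeal) := fun M => by
    letI := Ideal.Quotient.field M.asIdeal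
    have : IsAlgClosed (D ⧸ M.asIdeal) := by
      have : Algebra.IsIntegral K (D ⧸ M.asIdeal) := Algebra.IsIntegral.of_finite K _
      exact IsAlgClosed.of_ringEquiv K _
        (RingEquiv.ofBijective _ (IsAlgClosed.algebraMap_bijective_of_isIntegral (k := K) (K := D ⧸ M.asIdeal)))
    exact Groth.L13.WeilRes.exists_algHom_isAlgClosed D C hsurj _
  obtain ⟨G, -⟩ := Groth.L13.WeilRes.exists_algHom_artinian D (S := C) D fun M => (hχ M).some
  refine ⟨Z.isoSpec.hom ≫ Spec.map (CommRingCat.ofHom G.toRingHom) ≫ (∐ (fun z => (U z : Scheme.{u}))).isoSpec.inv ≫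
    Sigma.desc (fun z => (U z).ι), ?_⟩
  have h1 : Sigma.desc (fun z => (U z).ι) ≫ e = π := by ext z; simp [π]
  simp only [Category.assoc, h1]
  rw [← Scheme.isoSpec_inv_naturality π, ← Spec.map_comp_assoc]
  rw [show π.appTop ≫ CommRingCat.ofHom G.toRingHom = 𝟙 _ from CommRingCat.hom_ext (RingHom.ext fun x => G.commutes x)]
  simp

variable {S : Scheme.{u}}

/-- The disjoint union of a finite family of affine opens. -/
abbrev famObj (A : Over S) (F : Finset A.left.affineOpens) : Over S :=
  Over.mk (Sigma.desc (fun a : F => a.1.1.ι) ≫ A.hom)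

/-- Its map to the ambient scheme. -/
abbrev famMap (A : Over S) (F : Finset A.left.affineOpens) : famObj A F ⟶ A :=
  Over.homMk (Sigma.desc (fun a : F => a.1.1.ι)) rfl

instance (A : Over S) (F : Finset A.left.affineOpens) : IsAffine (famObj A F).left := by
  have : ∀ a : F, IsAffine (a.1.1 : Scheme.{u}) := fun a => a.1.2
  exact inferInstanceAs (IsAffine (∐ fun a : F => (a.1.1 : Scheme.{u})))

instance (A : Over S) (F : Finset A.left.affineOpens) : Etale (famMap A F).left :=
  IsZariskiLocalAtSource.sigmaDesc fun a => inferInstanceAs (Etale a.1.1.ι)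

variable {X X' W W' : Sp S} {i : X ⟶ X'} {b : W ⟶ X}

/-- A lift of the section gives a lift of the point. -/
theorem exists_lift_of_section (c : W' ⟶ W) {T T₀ : Over S} (ξ : (yon S).obj T ⟶ push i b) {φ : T₀ ⟶ T}
    {y₀ : (yon S).obj T₀ ⟶ X} (sT : IsPullback y₀ ((yon S).map φ) i (ξ ≫ proj i b))
    (l : (yon S).obj T₀ ⟶ W') (hl : l ≫ c = sect ξ sT) :
    ∃ η : (yon S).obj T ⟶ push i (c ≫ b), η ≫ pushMap i b c = ξ := by
  let E : Elem i (c ≫ b) T :=
    { g := ξ ≫ proj i b
      h := fun x y e => sT.lift y ((yon S).map x) e.symm ≫ l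
      over := fun x y e => by
        rw [Category.assoc, ← Category.assoc l, hl, sect_comp, sT.lift_fst]
      nat := fun k x y e e' => by
        refine (congrArg (· ≫ l) (sT.hom_ext ?_ ?_)).trans (Category.assoc _ _ _)
        · rw [sT.lift_fst, Category.assoc, sT.lift_fst]
        · rw [sT.lift_snd, Category.assoc, sT.lift_snd, Functor.map_comp] }
  refine ⟨(homEquiv i (c ≫ b) T).symm E, (homEquiv i b T).injective ?_⟩
  rw [homEquiv_pushMap, Equiv.apply_symm_apply]
  have hg : (E.map c).g = (homEquiv i b T ξ).g := comp_proj i b ξ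
  refine elem_ext_of_isPullback _ _ hg sT ?_
  show (sT.lift y₀ ((yon S).map φ) _ ≫ l) ≫ c = _
  rw [show sT.lift y₀ ((yon S).map φ) sT.w = 𝟙 _ from sT.hom_ext (by simp) (by simp), Category.id_comp, hl]
  rfl

set_option maxHeartbeats 400000 in
/-- Points of a pushforward come from finite families of affine opens of an atlas. -/
theorem exists_pushMap_point (hi : RepWith @IsFinite i) {A : Over S} (p : (yon S).obj A ⟶ W)
    (hp : RepWith @Etale p) (hps : RepWith @Surjective p) (y : Points (push i b)) :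
    ∃ F, ∃ z, Points.map (pushMap i b ((yon S).map (famMap A F) ≫ p)) z = y := by
  obtain ⟨T, g, t, rfl⟩ := Groth.L23.exists_eq_ofPt y
  let K : Type u := AlgebraicClosure (T.left.residueField t)
  let τ₀ : Spec (CommRingCat.of K) ⟶ T.left :=
    Spec.map (CommRingCat.ofHom (algebraMap (T.left.residueField t) K)) ≫ T.left.fromSpecResidueField t
  let TK : Over S := Over.mk (τ₀ ≫ T.hom)
  let τ : TK ⟶ T := Over.homMk τ₀ rfl
  let o : ↥(Spec (CommRingCat.of K)) := IsLocalRing.closedPoint K
  have hτ : τ.left o = t := by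
    show τ₀ o = t
    rw [Scheme.Hom.comp_apply]
    exact Scheme.fromSpecResidueField_apply t _
  let ξ := (yon S).map τ ≫ g
  obtain ⟨Z, φ, y₀, sT⟩ : ∃ (Z : Over S) (φ : Z ⟶ TK) (y₀ : (yon S).obj Z ⟶ X),
      IsPullback y₀ ((yon S).map φ) i (ξ ≫ proj i b) := ⟨_, _, _, hi.1.isPullback _⟩
  have hφ : IsFinite φ.left := Groth.L23.repWith_prop hi sT
  let f : Z.left ⟶ Spec (CommRingCat.of K) := φ.left
  have : IsFinite f := hφ
  obtain ⟨P, pA, pZ, sP⟩ := Groth.L23.exists_isPullback_of_representable hp.1 (sect ξ sT)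
  have : Etale pZ.left := Groth.L23.repWith_prop hp sP
  have : Surjective pZ.left := Groth.L23.repWith_prop hps sP
  obtain ⟨s, hs⟩ := exists_section_etale f pZ.left
  let l₀ : Z ⟶ P := Over.homMk s (by rw [← Over.w pZ, reassoc_of% hs])
  have hl₀ : l₀ ≫ pZ = 𝟙 Z := Over.OverMorphism.ext hs
  let l : Z ⟶ A := l₀ ≫ pA
  have hl : (yon S).map l ≫ p = sect ξ sT := by
    rw [Functor.map_comp, Category.assoc, sP.w, ← Functor.map_comp_assoc, hl₀,
      CategoryTheory.Functor.map_id, Category.id_comp]
  classical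
  have : Finite ↥Z.left := Groth.L24.Boot.finite_of_isFinite_field f
  have := Fintype.ofFinite ↥Z.left
  have hcov : ∀ z : ↥Z.left, ∃ a : A.left.affineOpens, l.left z ∈ a.1 := fun z => by
    obtain ⟨_, ⟨U, hU, rfl⟩, hz, -⟩ :=
      A.left.isBasis_affineOpens.exists_subset_of_mem_open (Set.mem_univ (l.left z)) isOpen_univ
    exact ⟨⟨U, hU⟩, hz⟩
  choose a ha using hcov
  let F : Finset A.left.affineOpens := Finset.univ.image a
  let e := pullback.snd (famMap A F).left l.left
  have he : Etale e := inferInstance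
  have hes : Surjective e := ⟨fun z => by
    let j : F := ⟨a z, Finset.mem_image_of_mem _ (Finset.mem_univ z)⟩
    let w : ↥(famObj A F).left := Sigma.ι (fun a : F => (a.1.1 : Scheme.{u})) j ⟨l.left z, ha z⟩
    obtain ⟨q, -, hq⟩ := Scheme.Pullback.exists_preimage_pullback w z (f := (famMap A F).left) (g := l.left) (by
      show (Sigma.desc (fun a : F => a.1.1.ι)) (Sigma.ι (fun a : F => (a.1.1 : Scheme.{u})) j _) = _
      rw [← Scheme.Hom.comp_apply, Sigma.ι_desc]
      rfl)
    exact ⟨q, hq⟩⟩
  obtain ⟨s', hs'⟩ := exists_section_etale f e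
  let m : Z ⟶ famObj A F := Over.homMk (s' ≫ pullback.fst _ _) (by
    show (s' ≫ pullback.fst _ _) ≫ (famMap A F).left ≫ A.hom = Z.hom
    rw [Category.assoc, pullback.condition_assoc, ← Category.assoc, hs', Category.id_comp, Over.w l])
  have hm : m ≫ famMap A F = l := Over.OverMorphism.ext (by
    show (s' ≫ pullback.fst _ _) ≫ (famMap A F).left = l.left
    rw [Category.assoc, pullback.condition, ← Category.assoc, hs', Category.id_comp])
  obtain ⟨η, hη⟩ := exists_lift_of_section ((yon S).map (famMap A F) ≫ p) ξ sT ((yon S).map m)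
    (by rw [← Functor.map_comp_assoc, hm, hl])
  refine ⟨F, Points.ofPt η o, ?_⟩
  rw [Points.map_ofPt, hη, Groth.L23.ofPt_comp, hτ]

end Groth.L09.Artin.Res
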