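import Groth.Agent.L09.Artin.Res.AffPush
import Groth.Agent.L09.Artin.Res.Local
import Groth.Agent.L09.Artin.Res.Points
import Groth.Agent.L23.FppfSmooth
import Mathlib.AlgebraicGeometry.Morphisms.FormallyUnramified

/-!
# Pushforwards of algebraic spaces along finite flat maps of finite presentation are algebraic spaces
-/

set_option autoImplicit false
set_option backward.isDefEq.respectTransparency.types false

universe u

open CategoryTheory CategoryTheory.Limits AlgebraicGeometry Opposite AlgSp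

noncomputable section

namespace Groth.L09.Artin.Res

open Groth.L23.UHPush

variable {S : Scheme.{u}}

local instance : MorphismProperty.ContainsIdentities (@Smooth : MorphismProperty Scheme.{u}) :=
  ⟨fun _ => inferInstance⟩

local instance : MorphismProperty.ContainsIdentities (@LocallyOfFinitePresentation : MorphismProperty Scheme.{u}) :=
  ⟨fun _ => inferInstance⟩

theorem isOpenImmersion_of_etale_base {Y O X V P P' : Scheme.{u}} {c : Y ⟶ O} {s : V ⟶ O} (j : O ⟶ X) [Etale j]
    {w : P ⟶ Y} {π : P ⟶ V} (sW : IsPullback w π c s) {w' : P' ⟶ Y} {π' : P' ⟶ V}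
    (sY : IsPullback w' π' (c ≫ j) (s ≫ j)) (l : P ⟶ P') (h₁ : l ≫ w' = w) (h₂ : l ≫ π' = π) :
    IsOpenImmersion l := by
  have hd : IsOpenImmersion (pullback.mapDesc c s j) :=
    MorphismProperty.of_isPullback (P := @IsOpenImmersion) (pullback_map_diagonal_isPullback c s j) inferInstance
  have h : l = sW.isoPullback.hom ≫ pullback.mapDesc c s j ≫ sY.isoPullback.inv := by
    apply sY.hom_ext <;> simp [pullback.mapDesc, pullback.map, pullback.lift_fst, pullback.lift_snd, h₁, h₂]
  have h3 : IsOpenImmersion (pullback.mapDesc c s j ≫ sY.isoPullback.inv) := IsOpenImmersion.comp _ _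
  rw [h]
  exact IsOpenImmersion.comp _ _

theorem locP_iso_comp {P : MorphismProperty Scheme.{u}} {F F' G : Sp S} (e : F' ⟶ F) [IsIso e] {f : F ⟶ G}
    (h : LocP P f) : LocP P (e ≫ f) := fun _ _ a b k ha hb w =>
  h (a ≫ e) b k (Groth.L23.repWith_comp ha (Groth.L23.repWith_of_isIso e)) hb (by rw [Category.assoc, w])

theorem locP_snd_of_isPullback {P : MorphismProperty Scheme.{u}} {F F' G H : Sp S} {f : F ⟶ G} {g : H ⟶ G}
    {a : F' ⟶ F} {a' : F' ⟶ H} (sq : IsPullback a a' f g) {P' : Sp S} {c : P' ⟶ F} {c' : P' ⟶ H}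
    (sq' : IsPullback c c' f g) (h : LocP P c') : LocP P a' := by
  rw [← sq.isoIsPullback_hom_snd _ _ sq']
  exact locP_iso_comp _ h

/-- The fibre over a scheme of a pushforward along a finite flat map of schemes. -/
theorem exists_baseChange {T T₀ : Over S} (φ : T₀ ⟶ T) [IsFinite φ.left] [Flat φ.left]
    [LocallyOfFinitePresentation φ.left] {U : Over S} (u : U ⟶ T) :
    ∃ (U₀ : Over S) (φ' : U₀ ⟶ U) (y : U₀ ⟶ T₀), IsFinite φ'.left ∧ Flat φ'.left ∧
      LocallyOfFinitePresentation φ'.left ∧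
        IsPullback ((yon S).map y) ((yon S).map φ') ((yon S).map φ) ((yon S).map u) := by
  have hf : RepWith @IsFinite ((yon S).map φ) := Groth.L23.repWith_map ‹_›
  obtain ⟨U₀, y, φ', sq⟩ := Groth.L23.exists_isPullback_of_representable hf.1 ((yon S).map u)
  exact ⟨U₀, φ', y, Groth.L23.repWith_prop hf sq,
    Groth.L23.repWith_prop (Groth.L23.repWith_map (P := @Flat) ‹_›) sq,
    Groth.L23.repWith_prop (Groth.L23.repWith_map (P := @LocallyOfFinitePresentation) ‹_›) sq, sq⟩

theorem exists_affine_push' {T T₀ O Y : Over S} (φ : T₀ ⟶ T) (c : Y ⟶ O) (j : O ⟶ T₀) [IsAffine T.left]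
    [IsAffine Y.left] [IsFinite φ.left] [Flat φ.left] [LocallyOfFinitePresentation φ.left] :
    ∃ (G : Over S) (q : G ⟶ T) (θ : (yon S).obj G ⟶ push ((yon S).map φ) ((yon S).map c ≫ (yon S).map j)),
      IsIso θ ∧ θ ≫ proj _ _ = (yon S).map q ∧
        (Smooth (c.left ≫ j.left) → Smooth q.left) := by
  rw [← Functor.map_comp]
  obtain ⟨G, q, θ, h1, h2, -, -, h3⟩ := exists_affine_push φ (c ≫ j)
  exact ⟨G, q, θ, h1, h2, h3⟩

set_option maxHeartbeats 400000 in
/-- Affine pieces of an etale scheme give smooth maps of pushforwards. -/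
theorem repWith_smooth_pushMap {T T₀ O Y : Over S} (φ : T₀ ⟶ T) (j : O ⟶ T₀) (c : Y ⟶ O) [IsAffine T.left]
    [IsAffine Y.left] [IsFinite φ.left] [Flat φ.left] [LocallyOfFinitePresentation φ.left] [Etale j.left]
    [Etale c.left] : RepWith @Smooth (pushMap ((yon S).map φ) ((yon S).map j) ((yon S).map c)) := by
  obtain ⟨G, q, θ, hθ, hθq, hq⟩ := exists_affine_push' φ c j
  have : Smooth q.left := hq inferInstance
  have hG : RepWith @Smooth (proj ((yon S).map φ) ((yon S).map c ≫ (yon S).map j)) := by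
    rw [show proj _ _ = inv θ ≫ (yon S).map q from (IsIso.eq_inv_comp θ).2 hθq]
    exact Groth.L23.repWith_comp (Groth.L23.repWith_of_isIso _) (Groth.L23.repWith_map inferInstance)
  refine Groth.L23.repWith_of_exists fun V ξ => ?_
  obtain ⟨z, hz⟩ := (yon S).map_surjective (ξ ≫ proj ((yon S).map φ) ((yon S).map j))
  obtain ⟨V₀, φV, y, hfin, -, -, sV⟩ := exists_baseChange φ z
  have sT : IsPullback ((yon S).map y) ((yon S).map φV) ((yon S).map φ) (ξ ≫ proj _ _) := by rw [← hz]; exact sV
  obtain ⟨s₀, hs₀⟩ := (yon S).map_surjective (sect ξ sT)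
  have hsj : s₀ ≫ j = y := (yon S).map_injective (by rw [Functor.map_comp, hs₀, sect_comp])
  obtain ⟨W₁, w, π, sW⟩ := Groth.L23.exists_isPullback_of_representable
    (Groth.L23.repWith_map (P := @Etale) (g := c) inferInstance).1 ((yon S).map s₀)
  obtain ⟨Y', w', π', sY⟩ := Groth.L23.exists_isPullback_of_representable
    (Groth.L23.repWith_map (P := @Etale) (g := c ≫ j) (show Etale (c.left ≫ j.left) from inferInstance)).1
      ((yon S).map y)
  have sW₀ : IsPullback w π c s₀ :=
    IsPullback.of_map (yon S) ((yon S).map_injective (by simpa only [Functor.map_comp] using sW.w)) sW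
  have sY₀ : IsPullback w' π' (c ≫ j) y :=
    IsPullback.of_map (yon S) ((yon S).map_injective (by simpa only [Functor.map_comp] using sY.w)) sY
  let c' : W₁ ⟶ Y' := sY₀.lift w π (by rw [reassoc_of% sW₀.w, hsj])
  have hπ : c' ≫ π' = π := sY₀.lift_snd _ _ _
  have hc' : IsOpenImmersion c'.left := by
    have sWl := sW₀.map (Over.forget S)
    have sYl : IsPullback w'.left π'.left (c.left ≫ j.left) (s₀.left ≫ j.left) := by
      have h := sY₀.map (Over.forget S)
      have e : s₀.left ≫ j.left = y.left := congrArg CommaMorphism.left hsj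
      rw [e]
      exact h
    exact isOpenImmersion_of_etale_base j.left sWl sYl c'.left
      (congrArg CommaMorphism.left (sY₀.lift_fst _ _ _)) (congrArg CommaMorphism.left (sY₀.lift_snd _ _ _))
  have sW' : IsPullback ((yon S).map w) ((yon S).map c' ≫ (yon S).map π') ((yon S).map c) (sect ξ sT) := by
    rw [← Functor.map_comp, hπ, ← hs₀]; exact sW
  obtain ⟨fst, sq⟩ := exists_isPullback_pushMap ((yon S).map c) ξ sT sW'
  have sY' : IsPullback ((yon S).map w') ((yon S).map π') ((yon S).map c ≫ (yon S).map j) ((yon S).map y) := by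
    rw [← Functor.map_comp]; exact sY
  obtain ⟨fst', sq'⟩ := exists_isPullback_proj ((yon S).map z) sV sY'
  have hproj : RepWith @Smooth (proj ((yon S).map φV) ((yon S).map c' ≫ (yon S).map π')) := by
    rw [← pushMap_proj]
    refine Groth.L23.repWith_comp ?_ (Groth.L23.repWith_of_isPullback sq' hG)
    exact Groth.L23.repWith_mono (fun f hf => by have := hf; infer_instance)
      (repWith_openImm_pushMap (Groth.L23.repWith_map inferInstance) _ (Groth.L23.repWith_map hc'))
  obtain ⟨V', f', s', sq''⟩ : ∃ (V' : Over S) (f' : (yon S).obj V' ⟶ _) (s' : V' ⟶ V),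
      IsPullback f' ((yon S).map s') (proj ((yon S).map φV) ((yon S).map c' ≫ (yon S).map π')) (𝟙 _) :=
    ⟨_, _, _, hproj.1.isPullback _⟩
  exact ⟨V', f' ≫ fst, s', by simpa using sq''.paste_horiz sq, Groth.L23.repWith_prop hproj sq''⟩

/-- The pushforward to an affine scheme, from the charts given by affine pieces. -/
theorem push_of_pieces {T T₀ : Over S} (φ : T₀ ⟶ T) [IsAffine T.left] [IsFinite φ.left] [Flat φ.left]
    [LocallyOfFinitePresentation φ.left] {W : Sp S} (hW : IsAlgSpace W) (b : W ⟶ (yon S).obj T₀)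
    (hrep : ∀ (Y : Over S) (c : (yon S).obj Y ⟶ W), IsAffine Y.left → RepWith @Etale c →
      RepBySpWith FLP (pushMap ((yon S).map φ) b c).hom) :
    IsAlgSpace (push ((yon S).map φ) b) ∧
      (LocP @LocallyOfFinitePresentation b → LocP @LocallyOfFinitePresentation (proj ((yon S).map φ) b)) ∧
      (LocP @Smooth b → LocP @Smooth (proj ((yon S).map φ) b)) := by
  obtain ⟨A, p, hp, hps⟩ := hW.atlas
  let c : ∀ F : Finset A.left.affineOpens, (yon S).obj (famObj A F) ⟶ W := fun F => (yon S).map (famMap A F) ≫ p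
  have hc : ∀ F, RepWith @Etale (c F) := fun F =>
    Groth.L23.repWith_comp (Groth.L23.repWith_map inferInstance) hp
  have key : ∀ F, ∃ (G : Over S) (q : G ⟶ T) (θ : (yon S).obj G ⟶ push ((yon S).map φ) (c F ≫ b)),
      IsIso θ ∧ θ ≫ proj _ _ = (yon S).map q ∧
        (LocP @LocallyOfFinitePresentation b → LocallyOfFinitePresentation q.left) ∧
        (LocP @Smooth b → Smooth q.left) := fun F => by
    obtain ⟨bY, hbY⟩ := (yon S).map_surjective (c F ≫ b)
    obtain ⟨G, q, θ, h1, h2, -, h3, h4⟩ := exists_affine_push φ bY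
    rw [← hbY]
    exact ⟨G, q, θ, h1, h2, fun h => h3 (h (c F) (𝟙 _) bY (hc F) (Groth.L23.repWith_of_isIso _) (by simp [hbY])),
      fun h => h4 (h (c F) (𝟙 _) bY (hc F) (Groth.L23.repWith_of_isIso _) (by simp [hbY]))⟩
  choose G q θ hθ hθq hlfp hsm using key
  have hG : ∀ F, IsAlgSpace (push ((yon S).map φ) (c F ≫ b)) := fun F =>
    have := hθ F
    (IsAlgSpace.yon_obj (G F)).of_iso (asIso (θ F))
  have hpt : ∀ y : Points (push ((yon S).map φ) b), ∃ F z, Points.map (pushMap _ b (c F)) z = y :=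
    exists_pushMap_point (Groth.L23.repWith_map inferInstance) p hp hps
  have hX := Groth.L24.Boot.isAlgSpace_of_flat_cover hG (fun F => pushMap _ b (c F))
    (fun F => hrep _ (c F) inferInstance (hc F)) hpt
  have hcomp : ∀ F, pushMap _ b (c F) ≫ proj _ b =
      (haveI := hθ F; inv (θ F)) ≫ (yon S).map (q F) := fun F => by
    haveI := hθ F
    rw [pushMap_proj, IsIso.eq_inv_comp]
    exact hθq F
  refine ⟨hX, fun h => ?_, fun h => ?_⟩
  · refine locP_of_flat_cover Groth.L23.etLocal_lfp
      (fun χ g _ _ _ hh => Groth.L24.Alg.locallyOfFinitePresentation_of_fppf_comp χ g hh) hX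
      (fun F => pushMap _ b (c F)) (fun F => hrep _ (c F) inferInstance (hc F)) hpt _ fun F => ?_
    haveI := hθ F
    rw [hcomp]
    exact Groth.L23.locP_of_repWith Groth.L23.etLocal_lfp
      (Groth.L23.repWith_comp (Groth.L23.repWith_of_isIso _) (Groth.L23.repWith_map (hlfp F h)))
  · refine locP_of_flat_cover Groth.L23.etLocal_smooth
      (fun χ g _ _ _ hh => Groth.L23.FppfSmooth.smooth_of_fppf_comp χ g hh) hX
      (fun F => pushMap _ b (c F)) (fun F => hrep _ (c F) inferInstance (hc F)) hpt _ fun F => ?_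
    haveI := hθ F
    rw [hcomp]
    exact Groth.L23.locP_of_repWith Groth.L23.etLocal_smooth
      (Groth.L23.repWith_comp (Groth.L23.repWith_of_isIso _) (Groth.L23.repWith_map (hsm F h)))

/-- Passing from affine bases to all schemes. -/
theorem push_of_affine_case {T T₀ : Over S} (φ : T₀ ⟶ T) [IsFinite φ.left] [Flat φ.left]
    [LocallyOfFinitePresentation φ.left] {W : Sp S} (b : W ⟶ (yon S).obj T₀)
    (H : ∀ {U U₀ : Over S} (φ' : U₀ ⟶ U) (y : U₀ ⟶ T₀), IsAffine U.left → IsFinite φ'.left → Flat φ'.left →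
      LocallyOfFinitePresentation φ'.left →
      ∃ (W₁ : Sp S) (w : W₁ ⟶ W) (π : W₁ ⟶ (yon S).obj U₀), IsPullback w π b ((yon S).map y) ∧
        IsAlgSpace (push ((yon S).map φ') π) ∧
        (LocP @LocallyOfFinitePresentation b → LocP @LocallyOfFinitePresentation (proj ((yon S).map φ') π)) ∧
        (LocP @Smooth b → LocP @Smooth (proj ((yon S).map φ') π))) :
    IsAlgSpace (push ((yon S).map φ) b) ∧
      (LocP @LocallyOfFinitePresentation b → LocP @LocallyOfFinitePresentation (proj ((yon S).map φ) b)) ∧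
      (LocP @Smooth b → LocP @Smooth (proj ((yon S).map φ) b)) := by
  have key : ∀ {U : Over S} (u : U ⟶ T), IsAffine U.left →
      IsAlgSpace (pullback (proj ((yon S).map φ) b) ((yon S).map u)) ∧
      (LocP @LocallyOfFinitePresentation b →
        LocP @LocallyOfFinitePresentation (pullback.snd (proj ((yon S).map φ) b) ((yon S).map u))) ∧
      (LocP @Smooth b → LocP @Smooth (pullback.snd (proj ((yon S).map φ) b) ((yon S).map u))) := by
    intro U u hU
    obtain ⟨U₀, φ', y, h1, h2, h3, sq⟩ := exists_baseChange φ u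
    obtain ⟨W₁, w, π, sW, hA, hl, hs⟩ := H φ' y hU h1 h2 h3
    obtain ⟨fst, sP⟩ := exists_isPullback_proj ((yon S).map u) sq sW
    exact ⟨hA.of_iso (sP.isoIsPullback _ _ (IsPullback.of_hasPullback _ _)),
      fun h => locP_snd_of_isPullback (IsPullback.of_hasPullback _ _) sP (hl h),
      fun h => locP_snd_of_isPullback (IsPullback.of_hasPullback _ _) sP (hs h)⟩
  have hA := isAlgSpace_of_affineOpens (proj ((yon S).map φ) b) fun u _ hU => (key u hU).1
  exact ⟨hA, fun h => locP_of_affineOpens Groth.L23.etLocal_lfp _ hA fun u _ hU => (key u hU).2.1 h,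
    fun h => locP_of_affineOpens Groth.L23.etLocal_smooth _ hA fun u _ hU => (key u hU).2.2 h⟩

/-- The pushforward of an etale scheme is a smooth algebraic space. -/
theorem push_etale {T T₀ O : Over S} (φ : T₀ ⟶ T) [IsFinite φ.left] [Flat φ.left]
    [LocallyOfFinitePresentation φ.left] (j : O ⟶ T₀) [Etale j.left] :
    IsAlgSpace (push ((yon S).map φ) ((yon S).map j)) ∧
      LocP @Smooth (proj ((yon S).map φ) ((yon S).map j)) := by
  have hj : LocP @Smooth ((yon S).map j) :=
    Groth.L23.locP_of_repWith Groth.L23.etLocal_smooth (Groth.L23.repWith_map inferInstance)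
  suffices h : IsAlgSpace (push ((yon S).map φ) ((yon S).map j)) ∧
      (LocP @LocallyOfFinitePresentation ((yon S).map j) →
        LocP @LocallyOfFinitePresentation (proj ((yon S).map φ) ((yon S).map j))) ∧
      (LocP @Smooth ((yon S).map j) → LocP @Smooth (proj ((yon S).map φ) ((yon S).map j))) from
    ⟨h.1, h.2.2 hj⟩
  refine push_of_affine_case φ _ fun {U U₀} φ' y hU h1 h2 h3 => ?_
  obtain ⟨O', w, j', sq⟩ := Groth.L23.exists_isPullback_of_representable
    (Groth.L23.repWith_map (P := @Etale) (g := j) inferInstance).1 ((yon S).map y)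
  have : Etale j'.left := Groth.L23.repWith_prop (Groth.L23.repWith_map (P := @Etale) ‹_›) sq
  obtain ⟨hA, -, hs⟩ := push_of_pieces φ' (IsAlgSpace.yon_obj O') ((yon S).map j') fun Y c _ hc => by
    obtain ⟨c, rfl⟩ := (yon S).map_surjective c
    have : Etale c.left := (repWith_yon_map_iff _ c).1 hc
    exact repBySpWith_flp_of_repWith (repWith_smooth_pushMap φ' j' c)
  have hs' := hs (Groth.L23.locP_of_repWith Groth.L23.etLocal_smooth (Groth.L23.repWith_map inferInstance))
  exact ⟨_, _, _, sq, hA, fun _ => Groth.L23.locP_mono (fun _ hφ => by have := hφ; infer_instance) hs', fun _ => hs'⟩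

/-- Finite, flat and of finite presentation. -/
abbrev FinFlat : MorphismProperty Scheme.{u} := @IsFinite ⊓ @Flat ⊓ @LocallyOfFinitePresentation

/-- An etale map induces a smooth map of pushforwards along a finite flat map. -/
theorem repBySpWith_pushMap {X X' W W' : Sp S} {i : X ⟶ X'} {b : W ⟶ X} (hi : RepWith FinFlat i) (c : W' ⟶ W)
    (hc : RepWith @Etale c) : RepBySpWith FLP (pushMap i b c).hom := by
  refine (repBySpWith_hom_iff _ _).2 fun V ξ F' a a' sqF => ?_
  obtain ⟨V₀, φ, y₀, sT⟩ : ∃ (V₀ : Over S) (φ : V₀ ⟶ V) (y₀ : (yon S).obj V₀ ⟶ X),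
      IsPullback y₀ ((yon S).map φ) i (ξ ≫ proj i b) := ⟨_, _, _, hi.1.isPullback _⟩
  obtain ⟨⟨h1, h2⟩, h3⟩ := Groth.L23.repWith_prop hi sT
  obtain ⟨W₁, j, w, sW⟩ : ∃ (W₁ : Over S) (j : W₁ ⟶ V₀) (w : (yon S).obj W₁ ⟶ W'),
      IsPullback w ((yon S).map j) c (sect ξ sT) := ⟨_, _, _, hc.1.isPullback _⟩
  have : Etale j.left := Groth.L23.repWith_prop hc sW
  obtain ⟨fst, sq⟩ := exists_isPullback_pushMap c ξ sT sW
  obtain ⟨hA, hs⟩ := push_etale φ j
  exact ⟨hA.of_iso (sq.isoIsPullback _ _ sqF), flp_of_smooth (locP_snd_of_isPullback sqF sq hs)⟩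

/-- The pushforward of an algebraic space along a finite flat map of schemes of finite presentation is an
algebraic space, of finite presentation (smooth) if the space is. -/
theorem push_space {T T₀ : Over S} (φ : T₀ ⟶ T) [IsFinite φ.left] [Flat φ.left]
    [LocallyOfFinitePresentation φ.left] {W : Sp S} (hW : IsAlgSpace W) (b : W ⟶ (yon S).obj T₀) :
    IsAlgSpace (push ((yon S).map φ) b) ∧
      (LocP @LocallyOfFinitePresentation b → LocP @LocallyOfFinitePresentation (proj ((yon S).map φ) b)) ∧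
      (LocP @Smooth b → LocP @Smooth (proj ((yon S).map φ) b)) := by
  refine push_of_affine_case φ b fun {U U₀} φ' y hU h1 h2 h3 => ?_
  have hW₁ : IsAlgSpace (pullback b ((yon S).map y)) :=
    Groth.L24.St.isAlgSpace_pullback hW (IsAlgSpace.yon_obj _) (IsAlgSpace.yon_obj T₀) _ _
  obtain ⟨hA, hl, hs⟩ := push_of_pieces φ' hW₁ (pullback.snd b ((yon S).map y))
    fun Y c _ hc => repBySpWith_pushMap (Groth.L23.repWith_map ⟨⟨h1, h2⟩, h3⟩) c hc
  have sq := IsPullback.of_hasPullback b ((yon S).map y)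
  exact ⟨_, _, _, sq, hA,
    fun h => hl (Groth.L23.locP_of_isPullback Groth.L23.etLocal_lfp hW (IsAlgSpace.yon_obj _) (IsAlgSpace.yon_obj _) sq h),
    fun h => hs (Groth.L23.locP_of_isPullback Groth.L23.etLocal_smooth hW (IsAlgSpace.yon_obj _) (IsAlgSpace.yon_obj _) sq h)⟩

end Groth.L09.Artin.Res
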