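import Groth.Agent.L09.Artin.Res.Affine
import Groth.Agent.L23.LocP
import Mathlib.RingTheory.Flat.EquationalCriterion
import Mathlib.RingTheory.Finiteness.ModuleFinitePresentation
import Mathlib.AlgebraicGeometry.Morphisms.Finite
import Mathlib.AlgebraicGeometry.Morphisms.Smooth
import Mathlib.AlgebraicGeometry.Morphisms.Flat

/-!
# The pushforward of an affine scheme along a finite flat map of affine schemes
-/

set_option autoImplicit false
set_option backward.isDefEq.respectTransparency.types false

universe u

open CategoryTheory CategoryTheory.Limits AlgebraicGeometry Opposite AlgSp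
open scoped TensorProduct

noncomputable section

namespace Groth.L09.Artin.Res

open Groth.L23.UHPush
open Groth.L13.WeilRes hiding homEquiv

variable {S : Scheme.{u}}

/-- Over affine schemes, pushforward of an affine scheme along a finite flat map of finite presentation is
affine, and inherits finite presentation and smoothness. -/
theorem exists_affine_push {T T₀ Y : Over S} (φ : T₀ ⟶ T) (bY : Y ⟶ T₀) [IsAffine T.left] [IsAffine Y.left]
    [IsFinite φ.left] [Flat φ.left] [LocallyOfFinitePresentation φ.left] :
    ∃ (G : Over S) (q : G ⟶ T) (θ : (yon S).obj G ⟶ push ((yon S).map φ) ((yon S).map bY)),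
      IsIso θ ∧ θ ≫ proj _ _ = (yon S).map q ∧ IsAffine G.left ∧
        (LocallyOfFinitePresentation bY.left → LocallyOfFinitePresentation q.left) ∧
        (Smooth bY.left → Smooth q.left) := by
  have : IsAffine T₀.left := isAffine_of_isAffineHom φ.left
  let B : Type u := Γ(T.left, ⊤)
  let B' : Type u := Γ(T₀.left, ⊤)
  let A : Type u := Γ(Y.left, ⊤)
  letI : Algebra B B' := φ.left.appTop.hom.toAlgebra
  letI : Algebra B' A := bY.left.appTop.hom.toAlgebra
  have hfin : Module.Finite B B' :=
    ((HasAffineProperty.iff_of_isAffine (P := @IsFinite)).1 (inferInstance : IsFinite φ.left)).2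
  have hfl : Module.Flat B B' :=
    RingHom.flat_algebraMap_iff.1
      ((HasRingHomProperty.iff_of_isAffine (P := @Flat)).1 (inferInstance : Flat φ.left))
  have hfp : Algebra.FinitePresentation B B' :=
    RingHom.finitePresentation_algebraMap.1
      ((HasRingHomProperty.iff_of_isAffine (P := @LocallyOfFinitePresentation)).1
        (inferInstance : LocallyOfFinitePresentation φ.left))
  have : Module.FinitePresentation B B' := Module.FinitePresentation.of_finite_of_finitePresentation B B'
  have : Module.Projective B B' := Module.Flat.projective_of_finitePresentation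
  let s : Spec (CommRingCat.of B) ⟶ S := T.left.isoSpec.inv ≫ T.hom
  have h0 : Spec.map (CommRingCat.ofHom (algebraMap B B')) ≫ T.left.isoSpec.inv =
      T₀.left.isoSpec.inv ≫ φ.left := by
    exact Scheme.isoSpec_inv_naturality _
  have h1 : Spec.map (CommRingCat.ofHom (algebraMap B' A)) ≫ T₀.left.isoSpec.inv =
      Y.left.isoSpec.inv ≫ bY.left := by
    exact Scheme.isoSpec_inv_naturality _
  let e : affBase s ≅ T := Over.isoMk T.left.isoSpec.symm rfl
  let e₀ : affSrc s B' ≅ T₀ := Over.isoMk T₀.left.isoSpec.symm (by
    show _ ≫ T₀.hom = Spec.map _ ≫ _ ≫ T.hom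
    rw [reassoc_of% h0, Over.w φ]; rfl)
  let eY : affY s B' A ≅ Y := Over.isoMk Y.left.isoSpec.symm (by
    show _ ≫ Y.hom = Spec.map _ ≫ Spec.map _ ≫ _ ≫ T.hom
    rw [reassoc_of% h0, Over.w φ, reassoc_of% h1, Over.w bY]; rfl)
  have w0 : e₀.hom ≫ φ = affMap s B' ≫ e.hom := Over.OverMorphism.ext h0.symm
  have w1 : eY.hom ≫ bY = affYMap s B' A ≫ e₀.hom := Over.OverMorphism.ext h1.symm
  have sT : IsPullback ((yon S).map e₀.hom) ((yon S).map (affMap s B')) ((yon S).map φ) ((yon S).map e.hom) :=
    IsPullback.of_horiz_isIso ⟨by rw [← Functor.map_comp, w0, Functor.map_comp]⟩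
  have sW : IsPullback ((yon S).map eY.hom) ((yon S).map (affYMap s B' A)) ((yon S).map bY) ((yon S).map e₀.hom) :=
    IsPullback.of_horiz_isIso ⟨by rw [← Functor.map_comp, w1, Functor.map_comp]⟩
  obtain ⟨fst, hf⟩ := exists_isPullback_proj ((yon S).map e.hom) sT sW
  have : IsIso fst := hf.isIso_fst_of_isIso
  obtain ⟨θ, hθ, hθq⟩ := exists_isIso_affine (B := B) (B' := B') (A := A) s
  refine ⟨affRes s B' A, affResMap s B' A ≫ e.hom, θ ≫ fst, inferInstance, ?_,
    inferInstanceAs (IsAffine (Spec (CommRingCat.of (W B B' A)))), fun h => ?_, fun h => ?_⟩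
  · rw [Category.assoc, hf.w, ← Category.assoc, hθq, Functor.map_comp]
  · have : Algebra.FinitePresentation B' A :=
      RingHom.finitePresentation_algebraMap.1
        ((HasRingHomProperty.iff_of_isAffine (P := @LocallyOfFinitePresentation)).1 h)
    have : Algebra.FinitePresentation B (W B B' A) := weilRes_finitePresentation B B' A
    show LocallyOfFinitePresentation (Spec.map (CommRingCat.ofHom (algebraMap B (W B B' A))) ≫ T.left.isoSpec.inv)
    have : LocallyOfFinitePresentation (Spec.map (CommRingCat.ofHom (algebraMap B (W B B' A)))) :=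
      (HasRingHomProperty.Spec_iff (P := @LocallyOfFinitePresentation)).2
        (RingHom.finitePresentation_algebraMap.2 inferInstance)
    infer_instance
  · have : Algebra.Smooth B' A :=
      RingHom.smooth_algebraMap.1 ((HasRingHomProperty.iff_of_isAffine (P := @Smooth)).1 h)
    have : Algebra.Smooth B (W B B' A) := weilRes_smooth B B' A
    show Smooth (Spec.map (CommRingCat.ofHom (algebraMap B (W B B' A))) ≫ T.left.isoSpec.inv)
    have : Smooth (Spec.map (CommRingCat.ofHom (algebraMap B (W B B' A)))) :=
      (HasRingHomProperty.Spec_iff (P := @Smooth)).2 (RingHom.smooth_algebraMap.2 inferInstance)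
    infer_instance

end Groth.L09.Artin.Res
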