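import Groth.Agent.L09.Artin.Res.Basic
import Groth.Agent.L09.Artin.WeilFP
import Groth.Agent.L23.Glue
import Mathlib.AlgebraicGeometry.Pullbacks

/-!
# The pushforward of an affine scheme along a finite projective map of affine schemes
-/

set_option autoImplicit false
set_option backward.isDefEq.respectTransparency.types false

universe u

open CategoryTheory CategoryTheory.Limits AlgebraicGeometry Opposite AlgSp
open scoped TensorProduct

noncomputable section

namespace Groth.L09.Artin.Res

open Groth.L23.UHPush
open Groth.L13.WeilRes hiding homEquiv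

variable {S : Scheme.{u}}

/-- Maps bijective on points with values in affine schemes are isomorphisms. -/
theorem isIso_of_spec {F G : Sp S} (θ : F ⟶ G)
    (hinj : ∀ (R : CommRingCat.{u}) (s : Spec R ⟶ S) (k k' : (yon S).obj (Over.mk s) ⟶ F),
      k ≫ θ = k' ≫ θ → k = k')
    (hsurj : ∀ (R : CommRingCat.{u}) (s : Spec R ⟶ S) (y : (yon S).obj (Over.mk s) ⟶ G),
      ∃ k, k ≫ θ = y) : IsIso θ := by
  have hcov : ∀ Z : Over S, ∃ (ι : Type u) (R : ι → CommRingCat.{u}) (s : ∀ i, Spec (R i) ⟶ S)
      (v : ∀ i, Over.mk (s i) ⟶ Z), (∀ i, IsOpenImmersion (v i).left) ∧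
        ∀ t : ↥Z.left, ∃ i u, (v i).left u = t := fun Z => by
    let 𝒰 := Z.left.affineCover
    exact ⟨𝒰.I₀, _, fun i => 𝒰.f i ≫ Z.hom, fun i => Over.homMk (𝒰.f i) rfl,
      fun i => inferInstanceAs (IsOpenImmersion (𝒰.f i)), fun t => 𝒰.exists_eq t⟩
  have hinj' : ∀ (Z : Over S) (k k' : (yon S).obj Z ⟶ F), k ≫ θ = k' ≫ θ → k = k' := fun Z k k' h => by
    obtain ⟨ι, R, s, v, hv, hs⟩ := hcov Z
    have := hv
    exact Groth.L23.hom_ext_cover v hs fun i => hinj _ _ _ _ (by simp only [Category.assoc, h])
  refine isIso_of_yon θ hinj' fun Z y => ?_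
  obtain ⟨ι, R, s, v, hv, hs⟩ := hcov Z
  have := hv
  choose k hk using fun i => hsurj (R i) (s i) ((yon S).map (v i) ≫ y)
  obtain ⟨l, hl, -⟩ := Groth.L23.existsUnique_glue v hs k fun W i j a b w => hinj' _ _ _ (by
    rw [Category.assoc, Category.assoc, hk, hk, ← Functor.map_comp_assoc, ← Functor.map_comp_assoc, w])
  exact ⟨l, Groth.L23.hom_ext_cover v hs fun i => by rw [reassoc_of% hl i, hk]⟩

/-- Sections of a pushforward over representable data are determined on the fibre. -/
theorem elem_ext_of_isPullback {X X' W : Sp S} {i : X ⟶ X'} {b : W ⟶ X} {Z T₀ : Over S} (E E' : Elem i b Z)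
    (hg : E.g = E'.g) {φ : T₀ ⟶ Z} {y₀ : (yon S).obj T₀ ⟶ X} (sT : IsPullback y₀ ((yon S).map φ) i E.g)
    (h : E.h φ y₀ sT.w.symm = E'.h φ y₀ (by rw [← hg]; exact sT.w.symm)) : E = E' := by
  refine Elem.ext hg fun {Z'} x y e e' => ?_
  obtain ⟨a, ha⟩ := (yon S).map_surjective (sT.lift y ((yon S).map x) e.symm)
  obtain rfl : x = a ≫ φ := (yon S).map_injective (by rw [Functor.map_comp, ha, sT.lift_snd])
  obtain rfl : y = (yon S).map a ≫ y₀ := by rw [ha, sT.lift_fst]
  rw [E.nat a φ y₀ sT.w.symm e, E'.nat a φ y₀ (by rw [← hg]; exact sT.w.symm) e', h]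

variable {B B' A : Type u} [CommRing B] [CommRing B'] [CommRing A] [Algebra B B'] [Algebra B' A]
  [Module.Finite B B'] [Module.Projective B B'] (s : Spec (CommRingCat.of B) ⟶ S)

/-- The affine base. -/
abbrev affBase : Over S := Over.mk s

/-- The finite scheme over the affine base. -/
abbrev affSrc (B' : Type u) [CommRing B'] [Algebra B B'] : Over S :=
  Over.mk (Spec.map (CommRingCat.ofHom (algebraMap B B')) ≫ s)

/-- Its projection. -/
abbrev affMap (B' : Type u) [CommRing B'] [Algebra B B'] : affSrc s B' ⟶ affBase s :=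
  Over.homMk (Spec.map (CommRingCat.ofHom (algebraMap B B'))) rfl

/-- The affine scheme over the source. -/
abbrev affY (B' A : Type u) [CommRing B'] [CommRing A] [Algebra B B'] [Algebra B' A] : Over S :=
  Over.mk (Spec.map (CommRingCat.ofHom (algebraMap B' A)) ≫ (affSrc s B').hom)

/-- Its projection. -/
abbrev affYMap (B' A : Type u) [CommRing B'] [CommRing A] [Algebra B B'] [Algebra B' A] :
    affY s B' A ⟶ affSrc s B' :=
  Over.homMk (Spec.map (CommRingCat.ofHom (algebraMap B' A))) rfl

/-- The scheme of the Weil restriction. -/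
abbrev affRes (B' A : Type u) [CommRing B'] [CommRing A] [Algebra B B'] [Algebra B' A] [Module.Finite B B']
    [Module.Projective B B'] : Over S :=
  Over.mk (Spec.map (CommRingCat.ofHom (algebraMap B (W B B' A))) ≫ s)

/-- Its projection. -/
abbrev affResMap (B' A : Type u) [CommRing B'] [CommRing A] [Algebra B B'] [Algebra B' A] [Module.Finite B B']
    [Module.Projective B B'] : affRes s B' A ⟶ affBase s :=
  Over.homMk (Spec.map (CommRingCat.ofHom (algebraMap B (W B B' A)))) rfl

theorem isPullback_spec_tensor (R : Type u) [CommRing R] [Algebra B R] :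
    IsPullback (Spec.map (CommRingCat.ofHom (Algebra.TensorProduct.includeLeftRingHom : B' →+* B' ⊗[B] R)))
      (Spec.map (CommRingCat.ofHom (Algebra.TensorProduct.includeRight : R →ₐ[B] B' ⊗[B] R).toRingHom))
      (Spec.map (CommRingCat.ofHom (algebraMap B B'))) (Spec.map (CommRingCat.ofHom (algebraMap B R))) :=
  isPullback_SpecMap_of_isPushout _ _ _ _ (CommRingCat.isPushout_tensorProduct B B' R)

/-- The pushforward of an affine scheme is the spectrum of the Weil restriction. -/
theorem exists_isIso_affine :
    ∃ θ : (yon S).obj (affRes s B' A) ⟶ push ((yon S).map (affMap s B')) ((yon S).map (affYMap s B' A)),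
      IsIso θ ∧ θ ≫ proj _ _ = (yon S).map (affResMap s B' A) := by
  let π := affMap s B'
  let bY := affYMap s B' A
  let q := affResMap s B' A
  have sW := isPullback_spec_tensor (B := B) (B' := B') (W B B' A)
  let P : Over S := Over.mk (Spec.map (CommRingCat.ofHom (Algebra.TensorProduct.includeLeftRingHom :
    B' →+* B' ⊗[B] W B B' A)) ≫ (affSrc s B').hom)
  let pl : P ⟶ affSrc s B' := Over.homMk (Spec.map (CommRingCat.ofHom
    (Algebra.TensorProduct.includeLeftRingHom : B' →+* B' ⊗[B] W B B' A))) rfl
  let pr : P ⟶ affRes s B' A := Over.homMk (Spec.map (CommRingCat.ofHom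
    (Algebra.TensorProduct.includeRight : W B B' A →ₐ[B] B' ⊗[B] W B B' A).toRingHom)) (by
      show _ ≫ _ ≫ s = _ ≫ _ ≫ s
      rw [← Category.assoc, ← sW.w, Category.assoc])
  have sP : IsPullback pl pr π q :=
    IsPullback.of_map (Over.forget S) (Over.OverMorphism.ext sW.w) sW
  let uY : P ⟶ affY s B' A := Over.homMk (Spec.map (CommRingCat.ofHom (univ B B' A).toRingHom)) (by
    show _ ≫ _ ≫ _ = _ ≫ _
    rw [← Category.assoc]
    congr 1
    rw [← Spec.map_comp]
    congr 1
    exact CommRingCat.hom_ext (RingHom.ext fun b => (univ B B' A).commutes b))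
  have huY : uY ≫ bY = pl := Over.OverMorphism.ext (by
    show Spec.map _ ≫ Spec.map _ = Spec.map _
    rw [← Spec.map_comp]
    congr 1
    exact CommRingCat.hom_ext (RingHom.ext fun b => (univ B B' A).commutes b))
  have sPy := sP.map (yon S)
  let L : Elem ((yon S).map π) ((yon S).map bY) (affRes s B' A) :=
    { g := (yon S).map q
      h := fun x y e => sPy.lift y ((yon S).map x) e.symm ≫ (yon S).map uY
      over := fun x y e => by
        exact (Category.assoc _ _ _).trans ((congrArg (sPy.lift y ((yon S).map x) e.symm ≫ ·)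
          (((yon S).map_comp uY bY).symm.trans (congrArg _ huY))).trans (sPy.lift_fst _ _ _))
      nat := fun k x y e e' => by
        rw [← Category.assoc]
        congr 1
        exact sPy.hom_ext (by simp) (by simp) }
  refine ⟨(homEquiv _ _ _).symm L, isIso_of_spec _ ?_ ?_, by rw [comp_proj, Equiv.apply_symm_apply]⟩
  -- injectivity
  · intro R r k k' hk
    obtain ⟨k, rfl⟩ := (yon S).map_surjective k
    obtain ⟨k', rfl⟩ := (yon S).map_surjective k'
    congr 1
    obtain ⟨κ, hκ⟩ := Spec.map_surjective k.left
    obtain ⟨κ', hκ'⟩ := Spec.map_surjective k'.left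
    have hk' := congrArg (homEquiv _ _ _) hk
    rw [homEquiv_comp, homEquiv_comp, Equiv.apply_symm_apply] at hk'
    have hψ : κ.hom.comp (algebraMap B (W B B' A)) = κ'.hom.comp (algebraMap B (W B B' A)) := by
      have h1 : k ≫ q = k' ≫ q := (yon S).map_injective (by
        rw [Functor.map_comp, Functor.map_comp]; exact congrArg Elem.g hk')
      have h2 : k.left ≫ q.left = k'.left ≫ q.left := congrArg CommaMorphism.left h1
      rw [← hκ, ← hκ'] at h2
      simp only [q, Over.homMk_left, ← Spec.map_comp] at h2
      exact congrArg CommRingCat.Hom.hom (Spec.map_injective h2)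
    letI : Algebra B R := (κ.hom.comp (algebraMap B (W B B' A))).toAlgebra
    let f : W B B' A →ₐ[B] R := { κ.hom with commutes' := fun x => rfl }
    let f' : W B B' A →ₐ[B] R := { κ'.hom with commutes' := fun x => (RingHom.congr_fun hψ x).symm }
    have sR := isPullback_spec_tensor (B := B) (B' := B') R
    let Z₀ : Over S := Over.mk (Spec.map (CommRingCat.ofHom (Algebra.TensorProduct.includeRight :
      R →ₐ[B] B' ⊗[B] R).toRingHom) ≫ r)
    let x : Z₀ ⟶ Over.mk r := Over.homMk (Spec.map (CommRingCat.ofHom (Algebra.TensorProduct.includeRight :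
      R →ₐ[B] B' ⊗[B] R).toRingHom)) rfl
    have hr : Spec.map (CommRingCat.ofHom (algebraMap B R)) ≫ s = r := by
      rw [show CommRingCat.ofHom (algebraMap B R) = CommRingCat.ofHom (algebraMap B (W B B' A)) ≫ κ from rfl,
        Spec.map_comp, hκ, Category.assoc]
      exact Over.w k
    let y : Z₀ ⟶ affSrc s B' := Over.homMk (Spec.map (CommRingCat.ofHom
      (Algebra.TensorProduct.includeLeftRingHom : B' →+* B' ⊗[B] R))) (by
        show _ ≫ _ ≫ s = _ ≫ r
        rw [← Category.assoc, sR.w, Category.assoc, hr])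
    let m (h : W B B' A →ₐ[B] R) : Spec (CommRingCat.of (B' ⊗[B] R)) ⟶ Spec (CommRingCat.of (B' ⊗[B] W B B' A)) :=
      Spec.map (CommRingCat.ofHom (Algebra.TensorProduct.map (AlgHom.id B' B') h).toRingHom)
    have key : ∀ (h : W B B' A →ₐ[B] R) (z : Over.mk r ⟶ affRes s B' A),
        z.left = Spec.map (CommRingCat.ofHom h.toRingHom) →
        ∀ e, (Elem.restrict z L).h x ((yon S).map y) e =
          (yon S).map (Over.homMk (m h) (by
            show m h ≫ Spec.map _ ≫ Spec.map _ ≫ s = _ ≫ r
            simp only [m, ← Category.assoc, ← Spec.map_comp, ← hr]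
            congr 2
            apply CommRingCat.hom_ext
            refine RingHom.ext fun b => ?_
            show Algebra.TensorProduct.map (AlgHom.id B' B') h (algebraMap B B' b ⊗ₜ 1) =
              (1 : B') ⊗ₜ algebraMap B R b
            rw [Algebra.TensorProduct.map_tmul, map_one, Algebra.algebraMap_eq_smul_one,
              Algebra.algebraMap_eq_smul_one (A := R), TensorProduct.tmul_smul, TensorProduct.smul_tmul']
            rfl) : Z₀ ⟶ P) ≫ (yon S).map uY := by
      intro h z hz e
      show sPy.lift _ _ _ ≫ _ = _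
      congr 1
      apply sPy.hom_ext
      · rw [sPy.lift_fst, ← Functor.map_comp]
        congr 1
        apply Over.OverMorphism.ext
        show Spec.map _ = m h ≫ Spec.map _
        simp only [m, ← Spec.map_comp]
        congr 1
        apply CommRingCat.hom_ext
        refine RingHom.ext fun b => ?_
        show b ⊗ₜ (1 : R) = Algebra.TensorProduct.map (AlgHom.id B' B') h (b ⊗ₜ 1)
        rw [Algebra.TensorProduct.map_tmul, map_one]
        rfl
      · rw [sPy.lift_snd, ← Functor.map_comp]
        congr 1
        apply Over.OverMorphism.ext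
        show Spec.map _ ≫ z.left = m h ≫ Spec.map _
        simp only [m, hz, ← Spec.map_comp]
        congr 1
    have e0 : (yon S).map x ≫ (Elem.restrict k L).g = (yon S).map y ≫ (yon S).map π := by
      show (yon S).map x ≫ (yon S).map k ≫ (yon S).map q = _
      simp only [← Functor.map_comp]
      congr 1
      apply Over.OverMorphism.ext
      show Spec.map _ ≫ k.left ≫ Spec.map _ = Spec.map _ ≫ Spec.map _
      rw [← hκ, ← Spec.map_comp (CommRingCat.ofHom (algebraMap B (W B B' A))) κ]
      exact sR.w.symm
    have h1 := Elem.congr_h _ _ hk' (x := x) (y := (yon S).map y) e0 (by rw [← hk']; exact e0)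
    rw [key f k hκ.symm, key f' k' hκ'.symm, ← Functor.map_comp, ← Functor.map_comp] at h1
    have h2 := congrArg CommaMorphism.left ((yon S).map_injective h1)
    simp only [uY, m, Over.comp_left, Over.homMk_left, ← Spec.map_comp] at h2
    have h3 : f = f' := Groth.L13.WeilRes.hom_ext (AlgHom.ext fun a =>
      RingHom.congr_fun (congrArg CommRingCat.Hom.hom (Spec.map_injective h2)) a)
    apply Over.OverMorphism.ext
    rw [← hκ, ← hκ']
    congr 1
    apply CommRingCat.hom_ext
    exact congrArg AlgHom.toRingHom h3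
  -- surjectivity
  · intro R r y
    let E := homEquiv _ _ _ y
    obtain ⟨g, hg⟩ := (yon S).map_surjective E.g
    obtain ⟨ψ, hψ⟩ := Spec.map_surjective g.left
    letI : Algebra B R := ψ.hom.toAlgebra
    have sR := isPullback_spec_tensor (B := B) (B' := B') R
    have hr : Spec.map (CommRingCat.ofHom (algebraMap B R)) ≫ s = r := by
      rw [show CommRingCat.ofHom (algebraMap B R) = ψ from rfl, hψ]
      exact Over.w g
    let Z₀ : Over S := Over.mk (Spec.map (CommRingCat.ofHom (Algebra.TensorProduct.includeRight :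
      R →ₐ[B] B' ⊗[B] R).toRingHom) ≫ r)
    let φ : Z₀ ⟶ Over.mk r := Over.homMk (Spec.map (CommRingCat.ofHom (Algebra.TensorProduct.includeRight :
      R →ₐ[B] B' ⊗[B] R).toRingHom)) rfl
    let y₀ : Z₀ ⟶ affSrc s B' := Over.homMk (Spec.map (CommRingCat.ofHom
      (Algebra.TensorProduct.includeLeftRingHom : B' →+* B' ⊗[B] R))) (by
        show _ ≫ _ ≫ s = _ ≫ r
        rw [← Category.assoc, sR.w, Category.assoc, hr])
    have sR' : IsPullback ((yon S).map y₀) ((yon S).map φ) ((yon S).map π) E.g := by
      rw [← hg]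
      refine IsPullback.map (yon S) (IsPullback.of_map (Over.forget S) ?_ ?_)
      · apply Over.OverMorphism.ext
        show Spec.map _ ≫ Spec.map _ = Spec.map _ ≫ g.left
        rw [← hψ]
        exact sR.w
      · show IsPullback (Spec.map _) (Spec.map _) (Spec.map _) g.left
        rw [← hψ]
        exact sR
    obtain ⟨v, hv⟩ := (yon S).map_surjective (E.h φ ((yon S).map y₀) sR'.w.symm)
    have hvb : v ≫ bY = y₀ := (yon S).map_injective (by rw [Functor.map_comp, hv]; exact E.over _ _ _)
    obtain ⟨χ, hχ⟩ := Spec.map_surjective v.left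
    let χ' : A →ₐ[B'] B' ⊗[B] R :=
      { χ.hom with
        commutes' := fun b => by
          have h1 : v.left ≫ bY.left = y₀.left := congrArg CommaMorphism.left hvb
          simp only [bY, y₀, Over.homMk_left, ← hχ, ← Spec.map_comp] at h1
          exact RingHom.congr_fun (congrArg CommRingCat.Hom.hom (Spec.map_injective h1)) b }
    let κ := toHom χ'
    let k : Over.mk r ⟶ affRes s B' A := Over.homMk (Spec.map (CommRingCat.ofHom κ.toRingHom)) (by
      show _ ≫ _ ≫ s = r
      rw [← Category.assoc, ← Spec.map_comp, show CommRingCat.ofHom (algebraMap B (W B B' A)) ≫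
        CommRingCat.ofHom κ.toRingHom = CommRingCat.ofHom (algebraMap B R) from
          CommRingCat.hom_ext (RingHom.ext fun b => κ.commutes b), hr])
    refine ⟨(yon S).map k, (homEquiv _ _ _).injective ?_⟩
    rw [homEquiv_comp, Equiv.apply_symm_apply]
    have hgk : (Elem.restrict k L).g = E.g := by
      show (yon S).map k ≫ (yon S).map q = _
      rw [← hg, ← Functor.map_comp]
      congr 1
      apply Over.OverMorphism.ext
      show Spec.map _ ≫ Spec.map _ = g.left
      rw [← hψ, ← Spec.map_comp]
      congr 1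
      exact CommRingCat.hom_ext (RingHom.ext fun b => κ.commutes b)
    refine elem_ext_of_isPullback _ _ hgk (by rw [hgk]; exact sR') ?_
    show sPy.lift _ _ _ ≫ (yon S).map uY = _
    rw [← hv]
    let m' : Z₀ ⟶ P := Over.homMk (Spec.map (CommRingCat.ofHom
      (Algebra.TensorProduct.map (AlgHom.id B' B') κ).toRingHom)) (by
        show _ ≫ Spec.map _ ≫ Spec.map _ ≫ s = _ ≫ r
        simp only [← Category.assoc, ← Spec.map_comp, ← hr]
        congr 2
        apply CommRingCat.hom_ext
        refine RingHom.ext fun b => ?_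
        show Algebra.TensorProduct.map (AlgHom.id B' B') κ (algebraMap B B' b ⊗ₜ 1) = (1 : B') ⊗ₜ algebraMap B R b
        rw [Algebra.TensorProduct.map_tmul, map_one, Algebra.algebraMap_eq_smul_one,
          Algebra.algebraMap_eq_smul_one (A := R), TensorProduct.tmul_smul, TensorProduct.smul_tmul']
        rfl)
    have hm : sPy.lift ((yon S).map y₀) ((yon S).map (φ ≫ k)) (by
        rw [← hgk] at sR'; simpa [Functor.map_comp, Category.assoc, L, Elem.restrict] using sR'.w) =
        (yon S).map m' := by
      apply sPy.hom_ext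
      · rw [sPy.lift_fst, ← Functor.map_comp]
        congr 1
        apply Over.OverMorphism.ext
        show Spec.map _ = Spec.map _ ≫ Spec.map _
        rw [← Spec.map_comp]
        congr 1
        apply CommRingCat.hom_ext
        refine RingHom.ext fun b => ?_
        show b ⊗ₜ (1 : R) = Algebra.TensorProduct.map (AlgHom.id B' B') κ (b ⊗ₜ 1)
        rw [Algebra.TensorProduct.map_tmul, map_one]
        rfl
      · rw [sPy.lift_snd, ← Functor.map_comp]
        congr 1
        apply Over.OverMorphism.ext
        show Spec.map _ ≫ Spec.map _ = Spec.map _ ≫ Spec.map _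
        rw [← Spec.map_comp, ← Spec.map_comp]
        congr 1
    rw [hm, ← Functor.map_comp]
    congr 1
    apply Over.OverMorphism.ext
    show Spec.map _ ≫ Spec.map _ = v.left
    rw [← hχ, ← Spec.map_comp]
    congr 1
    apply CommRingCat.hom_ext
    exact congrArg AlgHom.toRingHom (map_toHom_univ χ')

end Groth.L09.Artin.Res
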