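import Groth.Agent.L23.UHPushProps
import Mathlib.AlgebraicGeometry.Morphisms.Finite

/-!
# Fibres of maps between pushforwards of sheaves
-/

set_option autoImplicit false
set_option backward.isDefEq.respectTransparency.types false

universe u

open CategoryTheory CategoryTheory.Limits AlgebraicGeometry Opposite AlgSp

noncomputable section

namespace Groth.L09.Artin.Res

open Groth.L23.UHPush

variable {S : Scheme.{u}} {X X' W W' : Sp S} {i : X ⟶ X'} {b : W ⟶ X}

/-- The section of a pushforward over the scheme representing the fibre. -/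
def sect {T T₀ : Over S} (ξ : (yon S).obj T ⟶ push i b) {φ : T₀ ⟶ T} {y₀ : (yon S).obj T₀ ⟶ X}
    (sT : IsPullback y₀ ((yon S).map φ) i (ξ ≫ proj i b)) : (yon S).obj T₀ ⟶ W :=
  (homEquiv i b T ξ).h φ y₀ (by rw [← comp_proj]; exact sT.w.symm)

theorem sect_comp {T T₀ : Over S} (ξ : (yon S).obj T ⟶ push i b) {φ : T₀ ⟶ T} {y₀ : (yon S).obj T₀ ⟶ X}
    (sT : IsPullback y₀ ((yon S).map φ) i (ξ ≫ proj i b)) : sect ξ sT ≫ b = y₀ :=
  Elem.over _ _ _ _

set_option maxHeartbeats 800000 in
/-- The fibre of a map of pushforwards is the pushforward of the fibre along the section. -/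
theorem exists_isPullback_pushMap (c : W' ⟶ W) {T T₀ : Over S} (ξ : (yon S).obj T ⟶ push i b)
    {φ : T₀ ⟶ T} {y₀ : (yon S).obj T₀ ⟶ X} (sT : IsPullback y₀ ((yon S).map φ) i (ξ ≫ proj i b))
    {W₁ : Sp S} {w : W₁ ⟶ W'} {π : W₁ ⟶ (yon S).obj T₀} (sW : IsPullback w π c (sect ξ sT)) :
    ∃ fst : push ((yon S).map φ) π ⟶ push i (c ≫ b),
      IsPullback fst (proj ((yon S).map φ) π) (pushMap i b c) ξ := by
  let E := homEquiv i b T ξ
  have hg : E.g = ξ ≫ proj i b := (comp_proj i b ξ).symm
  -- lifts to the fibre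
  have hk : ∀ {Z Z' : Over S} (z : (yon S).obj Z ⟶ (yon S).obj T) (x : Z' ⟶ Z) (y : (yon S).obj Z' ⟶ X),
      (yon S).map x ≫ z ≫ ξ ≫ proj i b = y ≫ i →
        ∃ k : Z' ⟶ T₀, (yon S).map k ≫ y₀ = y ∧ (yon S).map k ≫ (yon S).map φ = (yon S).map x ≫ z := by
    intro Z Z' z x y e
    obtain ⟨k, hk⟩ := (yon S).map_surjective (sT.lift y ((yon S).map x ≫ z) (by rw [← e, Category.assoc]))
    exact ⟨k, by rw [hk, sT.lift_fst], by rw [hk, sT.lift_snd]⟩
  choose k hk₁ hk₂ using @hk
  have huniq : ∀ {Z : Over S} (a a' : Z ⟶ T₀), (yon S).map a ≫ y₀ = (yon S).map a' ≫ y₀ →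
      (yon S).map a ≫ (yon S).map φ = (yon S).map a' ≫ (yon S).map φ → a = a' := fun a a' h₁ h₂ =>
    (yon S).map_injective (sT.hom_ext h₁ h₂)
  have hEh : ∀ {Z : Over S} (a : Z ⟶ T₀) (x : Z ⟶ T) (y : (yon S).obj Z ⟶ X) (e : (yon S).map x ≫ E.g = y ≫ i),
      a ≫ φ = x → (yon S).map a ≫ y₀ = y → E.h x y e = (yon S).map a ≫ sect ξ sT := by
    intro Z a x y e h₁ h₂
    subst h₁ h₂
    exact E.nat a φ y₀ _ e
  obtain ⟨θ, hθ⟩ := exists_hom_of_yon (F := push ((yon S).map φ) π) (G := push i (c ≫ b))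
    (fun Z l => (homEquiv i (c ≫ b) Z).symm
      { g := (homEquiv _ π Z l).g ≫ ξ ≫ proj i b
        h := fun {Z'} x y e => (homEquiv _ π Z l).h x ((yon S).map (k _ x y e))
          ((hk₂ _ x y e).symm) ≫ w
        over := fun {Z'} x y e => by
          rw [Category.assoc, ← Category.assoc w c b, sW.w, Category.assoc π, sect_comp, ← Category.assoc,
            Elem.over]
          exact hk₁ _ x y e
        nat := fun {Z₁ Z₂} m x y e e' => by
          rw [← Category.assoc]
          congr 1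
          have hm : k _ (m ≫ x) ((yon S).map m ≫ y) e' = m ≫ k _ x y e := huniq _ _
            (by rw [hk₁, Functor.map_comp, Category.assoc, hk₁])
            (by rw [hk₂, Functor.map_comp, Functor.map_comp, Category.assoc, Category.assoc, hk₂])
          refine (Elem.h_congr _ rfl (by rw [hm, Functor.map_comp]) _ ?_).trans
            ((homEquiv _ π Z l).nat m x ((yon S).map (k _ x y e)) ((hk₂ _ x y e).symm) ?_)
          all_goals
            rw [Functor.map_comp, Category.assoc, Category.assoc, ← hk₂ _ x y e] })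
    (fun {Z Z'} m l => (homEquiv i (c ≫ b) Z').injective (by
      rw [homEquiv_comp i (c ≫ b) m, Equiv.apply_symm_apply, Equiv.apply_symm_apply]
      refine Elem.ext ?_ fun {Z''} x y e e' => ?_
      · show (homEquiv _ π Z' ((yon S).map m ≫ l)).g ≫ _ = (yon S).map m ≫ _
        rw [homEquiv_comp]
        exact Category.assoc _ _ _
      · show _ ≫ w = _ ≫ w
        congr 1
        have h1 : homEquiv _ π Z' ((yon S).map m ≫ l) = Elem.restrict m (homEquiv _ π Z l) := homEquiv_comp _ _ _ _
        refine (Elem.congr_h _ _ h1 _ ?_).trans ?_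
        · rw [← h1]; exact (hk₂ _ x y e).symm
        · refine Elem.h_congr (homEquiv _ π Z l) rfl ?_ _ _
          congr 1
          refine huniq _ _ (by rw [hk₁, hk₁]) ?_
          rw [hk₂, hk₂, h1]
          show (yon S).map x ≫ (yon S).map m ≫ _ = _
          rw [← Category.assoc, ← Functor.map_comp]))
  refine ⟨θ, isPullback_of_yon ?_ ?_ ?_⟩
  · refine Groth.L23.hom_ext_yon fun Z l => (homEquiv i b Z).injective ?_
    rw [← Category.assoc, hθ, homEquiv_pushMap, Equiv.apply_symm_apply]
    obtain ⟨z, hz⟩ := (yon S).map_surjective (homEquiv _ π Z l).g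
    conv_rhs => rw [← Category.assoc, comp_proj, ← hz, homEquiv_comp]
    refine Elem.ext ?_ fun {Z'} x y e e' => ?_
    · show _ = (yon S).map z ≫ E.g
      rw [hg, hz]
      rfl
    · show (_ ≫ w) ≫ c = E.h (x ≫ z) y _
      rw [Category.assoc, sW.w, ← Category.assoc, (homEquiv _ π Z l).over]
      exact (hEh _ _ _ _ ((yon S).map_injective (by rw [Functor.map_comp, Functor.map_comp, hz]; exact hk₂ _ x y _))
        (hk₁ _ x y _)).symm
  · intro Z l l' h₁ h₂
    rw [hθ, hθ, Equiv.apply_eq_iff_eq] at h₁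
    rw [comp_proj, comp_proj] at h₂
    refine (homEquiv _ π Z).injective (Elem.ext h₂ fun {Z'} x a e e' => ?_)
    obtain ⟨a, rfl⟩ := (yon S).map_surjective a
    have ey : (yon S).map x ≫ (homEquiv _ π Z l).g ≫ ξ ≫ proj i b = ((yon S).map a ≫ y₀) ≫ i := by
      rw [← Category.assoc, e, Category.assoc, Category.assoc, sT.w]
    have ey' : (yon S).map x ≫ (homEquiv _ π Z l').g ≫ ξ ≫ proj i b = ((yon S).map a ≫ y₀) ≫ i := by
      rw [← h₂]; exact ey
    have hh := Elem.congr_h i (c ≫ b) h₁ (x := x) (y := (yon S).map a ≫ y₀) ey ey'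
    have ha : k _ x _ ey = a := huniq _ _ (hk₁ _ _ _ _) ((hk₂ _ _ _ _).trans e)
    have ha' : k _ x _ ey' = a := huniq _ _ (hk₁ _ _ _ _) ((hk₂ _ _ _ _).trans e')
    refine sW.hom_ext ?_ (by rw [Elem.over, Elem.over])
    refine (Eq.trans ?_ (hh.trans ?_))
    · show _ = _ ≫ w
      exact congrArg (· ≫ w) ((homEquiv _ π Z l).h_congr rfl (by rw [ha]) _ _)
    · show _ ≫ w = _
      exact congrArg (· ≫ w) ((homEquiv _ π Z l').h_congr rfl (by rw [ha']) _ _)
  · intro Z p s hps
    obtain ⟨z, rfl⟩ := (yon S).map_surjective s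
    have hP := congrArg (homEquiv i b Z) hps
    rw [homEquiv_pushMap, homEquiv_comp] at hP
    let P := homEquiv i (c ≫ b) Z p
    have hPg : P.g = (yon S).map z ≫ E.g := congrArg Elem.g hP
    have he : ∀ {Z' : Over S} (x : Z' ⟶ Z) (a : Z' ⟶ T₀),
        (yon S).map x ≫ (yon S).map z = (yon S).map a ≫ (yon S).map φ →
          (yon S).map x ≫ P.g = ((yon S).map a ≫ y₀) ≫ i := fun x a e => by
      rw [hPg, hg, ← Category.assoc, e, Category.assoc, Category.assoc, sT.w]
    have hl : ∀ {Z' : Over S} (x : Z' ⟶ Z) (a : (yon S).obj Z' ⟶ (yon S).obj T₀),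
        (yon S).map x ≫ (yon S).map z = a ≫ (yon S).map φ →
          ∃ m : (yon S).obj Z' ⟶ W₁, m ≫ π = a ∧ ∃ e, m ≫ w = P.h x (a ≫ y₀) e := by
      intro Z' x a e
      obtain ⟨a, rfl⟩ := (yon S).map_surjective a
      have hc : P.h x _ (he x a e) ≫ c = (yon S).map a ≫ sect ξ sT := by
        have h1 := Elem.congr_h i b hP (x := x) (y := (yon S).map a ≫ y₀) (he x a e) (by
          show (yon S).map x ≫ (yon S).map z ≫ E.g = _
          rw [hg, ← Category.assoc, e, Category.assoc, Category.assoc, sT.w])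
        refine h1.trans ?_
        exact hEh a (x ≫ z) _ _ ((yon S).map_injective (by rw [Functor.map_comp, Functor.map_comp, e])) rfl
      exact ⟨sW.lift _ _ hc, sW.lift_snd _ _ _, he x a e, sW.lift_fst _ _ _⟩
    choose m hm₁ hm₂ hm₃ using @hl
    let L : Elem ((yon S).map φ) π Z :=
      { g := (yon S).map z
        h := fun x a e => m x a e
        over := fun x a e => hm₁ x a e
        nat := fun {Z₁ Z₂} n x a e e' => sW.hom_ext (by
            rw [hm₃]
            conv_rhs => rw [Category.assoc, hm₃]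
            exact (P.h_congr rfl (Category.assoc _ _ _) _ (by
              rw [Functor.map_comp, Category.assoc, hm₂ x a e, Category.assoc]; simp only [Category.assoc])).trans
                (P.nat n x (a ≫ y₀) (hm₂ x a e) _))
          (by rw [hm₁, Category.assoc, hm₁]) }
    refine ⟨(homEquiv _ π Z).symm L, ?_, by rw [comp_proj, Equiv.apply_symm_apply]⟩
    rw [hθ]
    refine (Equiv.symm_apply_eq _).2 (Elem.ext ?_ fun {Z'} x y e e' => ?_)
    · show (homEquiv _ π Z ((homEquiv _ π Z).symm L)).g ≫ _ = P.g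
      rw [Equiv.apply_symm_apply, hPg, hg]
    · show _ ≫ w = P.h x y e'
      have e₁ : (yon S).map x ≫ (yon S).map z ≫ ξ ≫ proj i b = y ≫ i := by rw [← hg, ← hPg]; exact e'
      have e2 : homEquiv _ π Z ((homEquiv _ π Z).symm L) = L := Equiv.apply_symm_apply _ _
      rw [Elem.congr_h _ _ e2 _ ((congrArg ((yon S).map x ≫ ·) (congrArg Elem.g e2)).symm.trans
        (hk₂ _ x y e).symm)]
      show m x _ _ ≫ w = _
      rw [hm₃]
      exact P.h_congr rfl (hk₁ _ x y e) _ _

/-- Two pushforwards with sections over isomorphic data are compared by their projection. -/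
theorem exists_isPullback_proj {T T₀ : Over S} (g : (yon S).obj T ⟶ X') {φ : T₀ ⟶ T} {y₀ : (yon S).obj T₀ ⟶ X}
    (sT : IsPullback y₀ ((yon S).map φ) i g) {W₁ : Sp S} {w : W₁ ⟶ W} {π : W₁ ⟶ (yon S).obj T₀}
    (sW : IsPullback w π b y₀) :
    ∃ fst : push ((yon S).map φ) π ⟶ push i b, IsPullback fst (proj ((yon S).map φ) π) (proj i b) g := by
  suffices ∀ b' : W ⟶ X, b ≫ 𝟙 X = b' →
      ∃ fst : push ((yon S).map φ) π ⟶ push i b', IsPullback fst (proj ((yon S).map φ) π) (proj i b') g from
    this b (Category.comp_id b)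
  rintro _ rfl
  have := isIso_proj_id i
  let ξ := g ≫ inv (proj i (𝟙 X))
  have sT' : IsPullback y₀ ((yon S).map φ) i (ξ ≫ proj i (𝟙 X)) := by simpa [ξ] using sT
  have e : sect ξ sT' = y₀ := (Category.comp_id _).symm.trans (sect_comp ξ sT')
  obtain ⟨fst, h⟩ := exists_isPullback_pushMap b ξ sT' (W₁ := W₁) (w := w) (π := π) (by rw [e]; exact sW)
  refine ⟨fst, ?_⟩
  rw [← pushMap_proj]
  exact h.of_iso (Iso.refl _) (Iso.refl _) (Iso.refl _) (asIso (proj i (𝟙 X)))
    (by simp) (by simp) (by simp) (by simp [ξ])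

/-- The pushforward of an open subscheme along a universally closed map is an open subscheme. -/
theorem exists_open_proj {T T₀ O : Over S} (φ : T₀ ⟶ T) [UniversallyClosed φ.left] (j : O ⟶ T₀)
    [IsOpenImmersion j.left] :
    ∃ (T' : Over S) (ι : T' ⟶ T) (fst : (yon S).obj T' ⟶ push ((yon S).map φ) ((yon S).map j)),
      IsOpenImmersion ι.left ∧
        IsPullback fst ((yon S).map ι) (proj ((yon S).map φ) ((yon S).map j)) (𝟙 _) := by
  classical
  let K : Set ↥T.left := φ.left '' (Set.range j.left)ᶜ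
  have hK : IsClosed K := φ.left.isClosedMap _ j.left.isOpenEmbedding.isOpen_range.isClosed_compl
  let U : T.left.Opens := ⟨Kᶜ, hK.isOpen_compl⟩
  let T' : Over S := Over.mk (U.ι ≫ T.hom)
  let ι : T' ⟶ T := Over.homMk U.ι rfl
  have hι : Mono ι := Over.mono_of_mono_left ι
  have hj : Mono j := Over.mono_of_mono_left j
  have hlift : ∀ {Z : Over S} (x : Z ⟶ T') (y : (yon S).obj Z ⟶ (yon S).obj T₀),
      (yon S).map x ≫ (yon S).map ι = y ≫ (yon S).map φ → ∃ a : Z ⟶ O, (yon S).map a ≫ (yon S).map j = y := by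
    intro Z x y e
    obtain ⟨y, rfl⟩ := (yon S).map_surjective y
    rw [← Functor.map_comp, ← Functor.map_comp] at e
    have e' : x.left ≫ U.ι = y.left ≫ φ.left := congrArg CommaMorphism.left ((yon S).map_injective e)
    have hr : Set.range y.left ⊆ Set.range j.left := by
      rintro _ ⟨p, rfl⟩
      by_contra hp
      have h1 : φ.left (y.left p) ∈ U := by
        rw [← Scheme.Hom.comp_apply, ← e', Scheme.Hom.comp_apply]
        exact (x.left p).2
      exact h1 ⟨_, hp, rfl⟩
    refine ⟨Over.homMk (IsOpenImmersion.lift j.left y.left hr) ?_, ?_⟩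
    · rw [← Over.w j, IsOpenImmersion.lift_fac_assoc, Over.w y]
    · rw [← Functor.map_comp]
      congr 1
      exact Over.OverMorphism.ext (IsOpenImmersion.lift_fac j.left y.left hr)
  choose a ha using @hlift
  let fst := (homEquiv ((yon S).map φ) ((yon S).map j) T').symm
    { g := (yon S).map ι
      h := fun x y e => (yon S).map (a x y e)
      over := fun x y e => ha x y e
      nat := fun k x y e e' => (cancel_mono ((yon S).map j)).1 (by rw [ha, Category.assoc, ha]) }
  refine ⟨T', ι, fst, inferInstanceAs (IsOpenImmersion U.ι), isPullback_of_yon ?_ ?_ ?_⟩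
  · rw [comp_proj, Equiv.apply_symm_apply]
    exact (Category.comp_id _).symm
  · intro Z k k' _ h₂
    exact (cancel_mono ((yon S).map ι)).1 h₂
  · intro Z p z hz
    rw [Category.comp_id] at hz
    obtain ⟨z, rfl⟩ := (yon S).map_surjective z
    rw [comp_proj] at hz
    let P := homEquiv ((yon S).map φ) ((yon S).map j) Z p
    have hr : Set.range z.left ⊆ Set.range U.ι := by
      rintro _ ⟨q, rfl⟩
      rw [Scheme.Opens.range_ι]
      rintro ⟨t, ht, hte⟩
      obtain ⟨w, hw₁, hw₂⟩ := Scheme.Pullback.exists_preimage_pullback q t hte.symm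
      let Z₀ : Over S := Over.mk (pullback.fst z.left φ.left ≫ Z.hom)
      let x : Z₀ ⟶ Z := Over.homMk (pullback.fst z.left φ.left) rfl
      let y : Z₀ ⟶ T₀ := Over.homMk (pullback.snd z.left φ.left) (by
        show pullback.snd z.left φ.left ≫ T₀.hom = pullback.fst z.left φ.left ≫ Z.hom
        rw [← Over.w φ, ← pullback.condition_assoc, Over.w z])
      have e : (yon S).map x ≫ P.g = (yon S).map y ≫ (yon S).map φ := by
        rw [show P.g = _ from hz, ← Functor.map_comp, ← Functor.map_comp]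
        congr 1
        exact Over.OverMorphism.ext pullback.condition
      obtain ⟨o, ho⟩ := (yon S).map_surjective (P.h x ((yon S).map y) e)
      have ho' : o ≫ j = y := (yon S).map_injective (by rw [Functor.map_comp, ho]; exact P.over _ _ _)
      refine ht ⟨o.left w, ?_⟩
      rw [← Scheme.Hom.comp_apply, ← Over.comp_left, ho']
      exact hw₂
    let k : Z ⟶ T' := Over.homMk (IsOpenImmersion.lift U.ι z.left hr) (by
      show _ ≫ U.ι ≫ T.hom = _
      rw [IsOpenImmersion.lift_fac_assoc, Over.w z])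
    have hk : k ≫ ι = z := Over.OverMorphism.ext (IsOpenImmersion.lift_fac _ _ _)
    refine ⟨(yon S).map k, (homEquiv ((yon S).map φ) ((yon S).map j) Z).injective ?_, by
      rw [← Functor.map_comp, hk]⟩
    rw [homEquiv_comp, Equiv.apply_symm_apply]
    refine Elem.ext ?_ fun {Z'} x y e e' => (cancel_mono ((yon S).map j)).1 ?_
    · show (yon S).map k ≫ (yon S).map ι = _
      rw [← Functor.map_comp, hk]
      exact hz.symm
    · rw [Elem.over, Elem.over]

/-- The pushforward of an open immersion is an open immersion. -/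
theorem repWith_openImm_pushMap (hi : RepWith @UniversallyClosed i) (c : W' ⟶ W)
    (hc : RepWith @IsOpenImmersion c) : RepWith @IsOpenImmersion (pushMap i b c) := by
  refine Groth.L23.repWith_of_exists fun T ξ => ?_
  obtain ⟨T₀, φ, y₀, sT⟩ : ∃ (T₀ : Over S) (φ : T₀ ⟶ T) (y₀ : (yon S).obj T₀ ⟶ X),
      IsPullback y₀ ((yon S).map φ) i (ξ ≫ proj i b) := ⟨_, _, _, hi.1.isPullback _⟩
  have : UniversallyClosed φ.left := Groth.L23.repWith_prop hi sT
  obtain ⟨O, j, w, sW⟩ : ∃ (O : Over S) (j : O ⟶ T₀) (w : (yon S).obj O ⟶ W'),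
      IsPullback w ((yon S).map j) c (sect ξ sT) := ⟨_, _, _, hc.1.isPullback _⟩
  have : IsOpenImmersion j.left := Groth.L23.repWith_prop hc sW
  obtain ⟨fst, sq⟩ := exists_isPullback_pushMap c ξ sT sW
  obtain ⟨T', ι, fst', hι, sq'⟩ := exists_open_proj φ j
  exact ⟨T', fst' ≫ fst, ι, by simpa using sq'.paste_horiz sq, hι⟩

end Groth.L09.Artin.Res
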